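import Mathlib

/-!
One-parameter subgroups from conjugates of one element of order `p`.
-/

set_option autoImplicit false

namespace Cfsg.Agent.SL2Pres

variable {p : ℕ} [hp : Fact p.Prime] {F : Type*} [Field F] [Algebra (ZMod p) F]

/-- The coordinates of `c` in the power basis, as natural numbers. -/
noncomputable def coef (pb : PowerBasis (ZMod p) F) (c : F) (j : Fin pb.dim) : ℕ :=
  (pb.basis.repr c j).val

/-- The word for `c`. -/
noncomputable def xw (pb : PowerBasis (ZMod p) F) {G : Type*} [Group G] (A U : G) (c : F) : G :=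
  (List.ofFn fun j : Fin pb.dim => (A ^ (j : ℕ) * U * (A ^ (j : ℕ))⁻¹) ^ coef pb c j).prod

theorem map_xw (pb : PowerBasis (ZMod p) F) {G H : Type*} [Group G] [Group H] (φ : G →* H) (A U : G)
    (c : F) : φ (xw pb A U c) = xw pb (φ A) (φ U) c := by
  simp [xw, map_list_prod, List.map_ofFn, Function.comp_def]

theorem sum_coef (pb : PowerBasis (ZMod p) F) (c : F) :
    ∑ j : Fin pb.dim, (coef pb c j : F) * pb.gen ^ (j : ℕ) = c := by
  conv_rhs => rw [← pb.basis.sum_repr c]
  refine Finset.sum_congr rfl fun j _ => ?_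
  rw [pb.coe_basis, Algebra.smul_def, coef]
  congr 1
  rw [← map_natCast (algebraMap (ZMod p) F), ZMod.natCast_val, ZMod.cast_id]

/-- An additive set containing a power basis contains everything. -/
theorem additive_induction (pb : PowerBasis (ZMod p) F) {P : F → Prop} (h0 : P 0)
    (hadd : ∀ a b, P a → P b → P (a + b)) (hgen : ∀ j : Fin pb.dim, P (pb.gen ^ (j : ℕ))) (c : F) : P c := by
  rw [← sum_coef pb c]
  refine Finset.sum_induction _ P hadd h0 fun j _ => ?_
  induction coef pb c j with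
  | zero => simpa using h0
  | succ n ih =>
    rw [Nat.cast_succ, add_mul, one_mul]
    exact hadd _ _ ih (hgen j)

variable (pb : PowerBasis (ZMod p) F) {G : Type*} [Group G] {u a : G}

/-- The conjugates used in the words commute. -/
theorem commute_conjugates {n m : ℕ} (hcomm : ∀ n : ℕ, Commute u (a ^ n * u * (a ^ n)⁻¹)) :
    Commute (a ^ m * u * (a ^ m)⁻¹) (a ^ n * u * (a ^ n)⁻¹) := by
  wlog hle : m ≤ n generalizing m n
  · exact (this (by omega)).symm
  obtain ⟨k, rfl⟩ := Nat.exists_eq_add_of_le hle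
  have h := (hcomm k).map (MulAut.conj (a ^ m)).toMonoidHom
  simpa [MulAut.conj_apply, pow_add, mul_assoc, -map_pow] using h

/-- The subgroup generated by the conjugates. -/
abbrev span (d : ℕ) (u a : G) : Subgroup G :=
  Subgroup.closure (Set.range fun j : Fin d => a ^ (j : ℕ) * u * (a ^ (j : ℕ))⁻¹)

theorem xw_props (hu : u ^ p = 1) (hcomm : ∀ n : ℕ, Commute u (a ^ n * u * (a ^ n)⁻¹)) :
    (∀ c c', xw pb a u (c + c') = xw pb a u c * xw pb a u c') ∧
      (∀ j : Fin pb.dim, xw pb a u (pb.gen ^ (j : ℕ)) = a ^ (j : ℕ) * u * (a ^ (j : ℕ))⁻¹) ∧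
        ∀ c, xw pb a u c ^ p = 1 := by
  classical
  haveI hc : IsMulCommutative (span pb.dim u a) := Subgroup.isMulCommutative_closure (by
    rintro _ ⟨i, rfl⟩ _ ⟨j, rfl⟩
    exact commute_conjugates hcomm)
  letI : CommGroup (span pb.dim u a) :=
    { (inferInstance : Group (span pb.dim u a)) with mul_comm := fun x y => hc.is_comm.comm x y }
  let v : Fin pb.dim → span pb.dim u a := fun j => ⟨_, Subgroup.subset_closure ⟨j, rfl⟩⟩
  have hx : ∀ c, xw pb a u c = ((∏ j, v j ^ coef pb c j : span pb.dim u a) : G) := by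
    intro c
    rw [← List.prod_ofFn, Subgroup.val_list_prod, List.map_ofFn]
    rfl
  have hv : ∀ j, v j ^ p = 1 := fun j => Subtype.ext (by
    show (a ^ (j : ℕ) * u * (a ^ (j : ℕ))⁻¹) ^ p = 1
    rw [conj_pow, hu, mul_one, mul_inv_cancel])
  refine ⟨fun c c' => ?_, fun j => ?_, fun c => ?_⟩
  · rw [hx, hx, hx, ← Subgroup.coe_mul, ← Finset.prod_mul_distrib]
    congr 1
    refine Finset.prod_congr rfl fun j _ => ?_
    rw [coef, coef, coef, map_add, Finsupp.add_apply, ZMod.val_add, ← pow_add, ← pow_eq_pow_mod _ (hv j)]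
  · rw [hx, show ((a ^ (j : ℕ) * u * (a ^ (j : ℕ))⁻¹) : G) = ((v j : span pb.dim u a) : G) from rfl]
    congr 1
    rw [Finset.prod_eq_single j]
    · rw [coef, ← pb.basis_eq_pow, Module.Basis.repr_self, Finsupp.single_eq_same, ZMod.val_one, pow_one]
    · intro i _ hi
      rw [coef, ← pb.basis_eq_pow, Module.Basis.repr_self, Finsupp.single_eq_of_ne hi, ZMod.val_zero, pow_zero]
    · simp
  · rw [hx, ← Subgroup.coe_pow, ← Finset.prod_pow, Finset.prod_eq_one, Subgroup.coe_one]
    intro j _
    rw [← pow_mul, mul_comm, pow_mul, hv, one_pow]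

variable (hu : u ^ p = 1) (hcomm : ∀ n : ℕ, Commute u (a ^ n * u * (a ^ n)⁻¹))
include hu hcomm

theorem xw_zero : xw pb a u 0 = 1 := by
  have h := (xw_props pb hu hcomm).1 0 0
  rw [add_zero] at h
  exact mul_eq_left.1 h.symm

theorem xw_one : xw pb a u 1 = u := by
  have h := (xw_props pb hu hcomm).2.1 ⟨0, pb.dim_pos⟩
  simpa using h

theorem conj_xw_a (hmin : a * (a ^ (pb.dim - 1) * u * (a ^ (pb.dim - 1))⁻¹) * a⁻¹ = xw pb a u (pb.gen ^ pb.dim))
    (c : F) : a * xw pb a u c * a⁻¹ = xw pb a u (pb.gen * c) := by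
  obtain ⟨hadd, hgen, -⟩ := xw_props pb hu hcomm
  refine additive_induction pb (P := fun c => a * xw pb a u c * a⁻¹ = xw pb a u (pb.gen * c)) ?_ ?_ ?_ c
  · simp [xw_zero pb hu hcomm]
  · intro x y hx hy
    rw [hadd, mul_add, hadd, ← hx, ← hy]
    group
  · intro j
    rw [hgen, ← pow_succ']
    rcases Nat.lt_or_ge (j.val + 1) pb.dim with h | h
    · rw [show pb.gen ^ (j.val + 1) = pb.gen ^ ((⟨j.val + 1, h⟩ : Fin pb.dim) : ℕ) from rfl, hgen]
      simp only [pow_succ']
      group
    · have e : j.val + 1 = pb.dim := by omega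
      rw [e, ← hmin, show pb.dim - 1 = j.val by omega]

theorem conj_xw_h {h : G} (hah : Commute a h) {ω : F}
    (hh : h * u * h⁻¹ = xw pb a u ω)
    (hmin : a * (a ^ (pb.dim - 1) * u * (a ^ (pb.dim - 1))⁻¹) * a⁻¹ = xw pb a u (pb.gen ^ pb.dim))
    (c : F) : h * xw pb a u c * h⁻¹ = xw pb a u (ω * c) := by
  obtain ⟨hadd, hgen, -⟩ := xw_props pb hu hcomm
  have hconj : ∀ (n : ℕ) (x : F), a ^ n * xw pb a u x * (a ^ n)⁻¹ = xw pb a u (pb.gen ^ n * x) := by
    intro n
    induction n with
    | zero => simp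
    | succ n ih =>
      intro x
      rw [pow_succ' pb.gen, mul_assoc pb.gen, ← conj_xw_a pb hu hcomm hmin, ← ih, pow_succ']
      group
  refine additive_induction pb (P := fun c => h * xw pb a u c * h⁻¹ = xw pb a u (ω * c)) ?_ ?_ ?_ c
  · simp [xw_zero pb hu hcomm]
  · intro x y hx hy
    rw [hadd, mul_add, hadd, ← hx, ← hy]
    group
  · intro j
    have hc : h * a ^ (j : ℕ) = a ^ (j : ℕ) * h := (hah.symm.pow_right j).eq
    rw [hgen, mul_comm ω, ← hconj, ← hh]
    calc h * (a ^ (j : ℕ) * u * (a ^ (j : ℕ))⁻¹) * h⁻¹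
        = (h * a ^ (j : ℕ)) * u * (h * a ^ (j : ℕ))⁻¹ := by group
      _ = (a ^ (j : ℕ) * h) * u * (a ^ (j : ℕ) * h)⁻¹ := by rw [hc]
      _ = _ := by group

omit hu hcomm in
/-- Conjugates commute when `u ^ b = u * u ^ a` and `u` commutes with `u ^ a`. -/
theorem commute_all {b : G} (hab : Commute a b) (h1 : Commute u (a * u * a⁻¹))
    (hb : b * u * b⁻¹ = u * (a * u * a⁻¹)) : ∀ n : ℕ, Commute u (a ^ n * u * (a ^ n)⁻¹) := by
  intro n
  induction n using Nat.strong_induction_on with
  | _ n ih =>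
    rcases n with _ | _ | n
    · simp
    · simpa using h1
    · have shift : ∀ k : ℕ, Commute u (a ^ k * u * (a ^ k)⁻¹) →
          Commute (a * u * a⁻¹) (a ^ (k + 1) * u * (a ^ (k + 1))⁻¹) := fun k hk => by
        have := hk.map (MulAut.conj a).toMonoidHom
        simpa [MulAut.conj_apply, pow_succ', mul_assoc, -map_pow] using this
      set v := a * u * a⁻¹
      set x := a ^ (n + 1) * u * (a ^ (n + 1))⁻¹
      set y := a ^ (n + 2) * u * (a ^ (n + 2))⁻¹
      have hux : Commute u x := ih (n + 1) (by omega)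
      have hvx : Commute v x := shift n (ih n (by omega))
      have hvy : Commute v y := shift (n + 1) hux
      have hxy : b * x * b⁻¹ = x * y := by
        have hc : b * a ^ (n + 1) = a ^ (n + 1) * b := (hab.symm.pow_right (n + 1)).eq
        calc b * x * b⁻¹ = (b * a ^ (n + 1)) * u * (b * a ^ (n + 1))⁻¹ := by simp only [x]; group
          _ = a ^ (n + 1) * (b * u * b⁻¹) * (a ^ (n + 1))⁻¹ := by rw [hc]; group
          _ = x * y := by rw [hb]; simp only [x, y, v, pow_succ _ (n + 1)]; group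
      have h2 : Commute (u * v) (x * y) := by
        have := hux.map (MulAut.conj b).toMonoidHom
        simp only [MulEquiv.coe_toMonoidHom, MulAut.conj_apply] at this
        rwa [hb, hxy] at this
      have h3 : Commute (u * v) x := hux.mul_left hvx
      have h4 : Commute (u * v) y := by
        have := h3.inv_right.mul_right h2
        simpa using this
      have := h4.mul_left hvy.inv_left
      simpa using this

omit hu hcomm in
/-- Conjugates commute when `⟨u, u ^ a⟩` is abelian and invariant under `a`. -/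
theorem commute_small (h1 : Commute u (a * u * a⁻¹))
    (h2 : a * (a * u * a⁻¹) * a⁻¹ ∈ Subgroup.closure ({u, a * u * a⁻¹} : Set G)) :
    ∀ n : ℕ, Commute u (a ^ n * u * (a ^ n)⁻¹) := by
  set K := Subgroup.closure ({u, a * u * a⁻¹} : Set G)
  have hstab : ∀ g ∈ K, a * g * a⁻¹ ∈ K := fun g hg => by
    refine Subgroup.closure_induction ?_ ?_ ?_ ?_ hg
    · rintro x (rfl | rfl)
      · exact Subgroup.subset_closure (Or.inr rfl)
      · exact h2
    · simp [one_mem]
    · intro x y _ _ hx hy
      simpa [mul_assoc] using mul_mem hx hy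
    · intro x _ hx
      simpa [mul_assoc] using inv_mem hx
  have hmem : ∀ n : ℕ, a ^ n * u * (a ^ n)⁻¹ ∈ K := by
    intro n
    induction n with
    | zero => simpa using (Subgroup.subset_closure (Or.inl rfl) : u ∈ K)
    | succ n ih => simpa [pow_succ', mul_assoc] using hstab _ ih
  intro n
  refine Subgroup.closure_induction (p := fun g _ => Commute u g) ?_ (Commute.one_right u)
    (fun x y _ _ hx hy => hx.mul_right hy) (fun x _ hx => hx.inv_right) (hmem n)
  rintro x (rfl | rfl)
  · rfl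
  · exact h1

end Cfsg.Agent.SL2Pres
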